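import Groth.Agent.TorShiftLib.BaseChange
import Groth.Agent.DiagTorLib.Semi
import Groth.Agent.IntMultRegLib.Deviss
import Groth.Agent.TameLib.Len
import Groth.Agent.CycDivLib.Pull

/-!
# Tor over a semilocal finite algebra
-/

set_option autoImplicit false
set_option backward.isDefEq.respectTransparency false
set_option backward.isDefEq.respectTransparency.types false
set_option linter.style.haveILetI false

universe u

open TensorProduct IsLocalRing

noncomputable section

namespace CycProjLib

variable {A : Type u} [CommRing A]

/-- A semilinear bijection preserves lengths over the base. -/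
theorem length_semilinear {R : Type u} [CommRing R] [Algebra A R] {M M' M'' : Type u} [AddCommGroup M] [Module A M]
    [AddCommGroup M'] [Module R M'] [AddCommGroup M''] [Module R M''] [Module A M''] [IsScalarTower A R M'']
    (φ : M →ₛₗ[algebraMap A R] M') (hφ : Function.Bijective φ) (e : M' ≃ₗ[R] M'') :
    Module.length A M = Module.length A M'' := by
  letI : Module A M' := Module.compHom M' (algebraMap A R)
  haveI : IsScalarTower A R M' := IsScalarTower.of_algebraMap_smul fun _ _ => rfl
  let l : M →ₗ[A] M' := { toFun := φ, map_add' := map_add φ, map_smul' := fun a x => φ.map_smulₛₗ a x }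
  exact ((LinearEquiv.ofBijective l hφ).trans (e.restrictScalars A)).length_eq

/-- Lengths along a local homomorphism. -/
theorem toNat_length_restrict [IsLocalRing A] {R : Type u} [CommRing R] [IsLocalRing R] [Algebra A R]
    [IsLocalHom (algebraMap A R)] (M : Type u) [AddCommGroup M] [Module A M] [Module R M] [IsScalarTower A R M] :
    (Module.length A M).toNat = Module.finrank (ResidueField A) (ResidueField R) * (Module.length R M).toNat := by
  rw [IsLocalRing.length_restrictScalars A R M, ENat.toNat_mul, Module.length_eq_rank, mul_comm]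
  congr 1

/-- Tor over the base from Tor over a flat local algebra. -/
theorem length_tor_local [IsLocalRing A] {R : Type u} [CommRing R] [IsLocalRing R] [Algebra A R]
    [IsLocalHom (algebraMap A R)] [Module.Flat A R] (C : Type u) [AddCommGroup C] [Module R C] [Module A C]
    [IsScalarTower A R C] (N : Type u) [AddCommGroup N] [Module A N] (i : ℕ) :
    (Module.length A (DRing.Tor A i C N)).toNat = Module.finrank (ResidueField A) (ResidueField R) *
      (Module.length R (DRing.Tor R i C (R ⊗[A] N))).toNat := by
  obtain ⟨φ, hφ⟩ := TorShiftLib.nonempty_restrict_baseChange (A := A) (A' := R) N i C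
  letI : Module A (DRing.Tor R i C (R ⊗[A] N)) := Module.compHom _ (algebraMap A R)
  haveI : IsScalarTower A R (DRing.Tor R i C (R ⊗[A] N)) := IsScalarTower.of_algebraMap_smul fun _ _ => rfl
  rw [length_semilinear φ hφ (LinearEquiv.refl R _), toNat_length_restrict (R := R)]

/-- The intersection number over a flat local algebra. -/
theorem finsum_tor_local [IsLocalRing A] {R : Type u} [CommRing R] [IsLocalRing R] [Algebra A R]
    [IsLocalHom (algebraMap A R)] [Module.Flat A R] (C : Type u) [AddCommGroup C] [Module R C] [Module A C]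
    [IsScalarTower A R C] (N : Type u) [AddCommGroup N] [Module A N] :
    ∑ᶠ i : ℕ, (-1 : ℤ) ^ i * ((Module.length A (DRing.Tor A i C N)).toNat : ℤ) =
      (Module.finrank (ResidueField A) (ResidueField R) : ℤ) * IntMult.chi R C (R ⊗[A] N) := by
  rw [IntMult.chi, ← smul_eq_mul, smul_finsum]
  refine finsum_congr fun i => ?_
  rw [smul_eq_mul, length_tor_local (R := R) C N i, Nat.cast_mul]
  ring

/-- Tor over the base of a localisation, from the localisation of Tor over a flat algebra. -/
theorem length_tor_localized {A' R : Type u} [CommRing A'] [CommRing R] [Algebra A A'] [Algebra A' R] [Algebra A R]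
    [IsScalarTower A A' R] [Module.Flat A' R] [Module.Flat A R] (N : Type u) [AddCommGroup N] [Module A N] (i : ℕ)
    {M M' : Type u} [AddCommGroup M] [Module A' M] [AddCommGroup M'] [Module A' M'] [Module R M'] [IsScalarTower A' R M']
    [Module A M'] [IsScalarTower A R M'] (f : M →ₗ[A'] M') (hf : IsBaseChange R f)
    {T' : Type u} [AddCommGroup T'] [Module A' T'] [Module R T'] [IsScalarTower A' R T'] [Module A T'] [IsScalarTower A R T']
    (g : DRing.Tor A' i M (A' ⊗[A] N) →ₗ[A'] T') (hg : IsBaseChange R g) :
    Module.length A (DRing.Tor A i M' N) = Module.length A T' := by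
  obtain ⟨e₁⟩ := TorShiftLib.nonempty_flat_baseChange (A := A') R (A' ⊗[A] N) i M
  obtain ⟨e₂⟩ := DiagTorLib.nonempty_tor_congr hf.equiv (AlgebraTensorModule.cancelBaseChange A A' R R N) i
  obtain ⟨φ, hφ⟩ := TorShiftLib.nonempty_restrict_baseChange (A := A) (A' := R) N i M'
  exact length_semilinear φ hφ (e₂.symm.trans (e₁.symm.trans hg.equiv))

variable [IsLocalRing A] {B : Type u} [CommRing B] [Algebra A B] [Module.Finite A B]

/-- Tor of a semilocal algebra is the sum over its localisations. -/
theorem length_tor_sum [Fintype (MaximalSpectrum B)] (N : Type u) [AddCommGroup N] [Module A N] (i : ℕ)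
    (hfin : Module.length A (DRing.Tor A i B N) ≠ ⊤) :
    Module.length A (DRing.Tor A i B N) =
      ∑ q : MaximalSpectrum B, Module.length A (DRing.Tor A i (Localization.AtPrime q.asIdeal) N) := by
  obtain ⟨n, π, hπ⟩ := Algebra.FiniteType.iff_quotient_mvPolynomial''.1
    (inferInstance : Algebra.FiniteType A B)
  let A' := MvPolynomial (Fin n) A
  letI : Algebra A' B := π.toRingHom.toAlgebra
  haveI : IsScalarTower A A' B := IsScalarTower.of_algebraMap_eq fun a => (π.commutes a).symm
  let T := DRing.Tor A' i B (A' ⊗[A] N)
  obtain ⟨φ, hφ⟩ := TorShiftLib.nonempty_restrict_baseChange (A := A) (A' := A') N i B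
  let I := RingHom.ker π.toRingHom
  have hk : Module.IsTorsionBySet A' T (I : Set A') := by
    rintro y ⟨a, ha⟩
    refine IntMultRegLib.tor_killed_left B (A' ⊗[A] N) i a (fun x => ?_) y
    show π a * x = 0
    rw [show π a = 0 from ha, zero_mul]
  letI : Module (A' ⧸ I) T := hk.module
  let ψ : (A' ⧸ I) ≃+* B := RingHom.quotientKerEquivOfSurjective (f := π.toRingHom) hπ
  letI : Module B T := Module.compHom T ψ.symm.toRingHom
  haveI : IsScalarTower A' B T := IsScalarTower.of_algebraMap_smul fun a t => by
    show ψ.symm (π.toRingHom a) • t = a • t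
    rw [show π.toRingHom a = ψ (Ideal.Quotient.mk I a) from rfl, RingEquiv.symm_apply_apply]
    rfl
  letI : Module A T := Module.compHom T (algebraMap A A')
  haveI : IsScalarTower A A' T := IsScalarTower.of_algebraMap_smul fun _ _ => rfl
  haveI : IsScalarTower A B T := IsScalarTower.of_algebraMap_smul fun a t => by
    rw [IsScalarTower.algebraMap_apply A A' B, algebraMap_smul]
    rfl
  have hT : Module.length A (DRing.Tor A i B N) = Module.length A T :=
    length_semilinear φ hφ (LinearEquiv.refl A' T)
  have hfl : IsFiniteLength B T := by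
    rw [hT] at hfin
    have h := isFiniteLength_iff_isNoetherian_isArtinian.1 (Module.length_ne_top_iff.1 hfin)
    exact isFiniteLength_iff_isNoetherian_isArtinian.2 ⟨isNoetherian_of_tower A h.1, isArtinian_of_tower A h.2⟩
  rw [hT, TameLib.length_eq_sum A T hfl]
  refine Finset.sum_congr rfl fun q _ => ?_
  haveI := q.isMaximal
  let P : Ideal A' := q.asIdeal.comap π.toRingHom
  let R := Localization.AtPrime P
  let Bq := Localization.AtPrime q.asIdeal
  letI : Algebra R Bq := (Localization.localRingHom P q.asIdeal π.toRingHom rfl).toAlgebra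
  haveI : IsScalarTower A' R Bq := IsScalarTower.of_algebraMap_eq fun a => by
    show algebraMap A' Bq a = Localization.localRingHom P q.asIdeal π.toRingHom rfl (algebraMap A' R a)
    rw [Localization.localRingHom_to_map, IsScalarTower.algebraMap_apply A' B Bq]
    rfl
  haveI : IsScalarTower A R Bq := IsScalarTower.of_algebraMap_eq fun a => by
    rw [IsScalarTower.algebraMap_apply A A' R, ← IsScalarTower.algebraMap_apply A' R Bq,
      ← IsScalarTower.algebraMap_apply A A' Bq]
  haveI : Module.Flat A' R := IsLocalization.flat R P.primeCompl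
  haveI : Module.Flat A R := Module.Flat.trans A A' R
  let Tq := LocalizedModule q.asIdeal.primeCompl T
  letI : Module R Tq := Module.compHom Tq (algebraMap R Bq)
  haveI : IsScalarTower R Bq Tq := IsScalarTower.of_algebraMap_smul fun _ _ => rfl
  haveI : IsScalarTower A' Bq Tq := IsScalarTower.of_algebraMap_smul fun a t => by
    rw [IsScalarTower.algebraMap_apply A' B Bq, algebraMap_smul, algebraMap_smul]
  haveI : IsScalarTower A' R Tq := IsScalarTower.of_algebraMap_smul fun a t => by
    show algebraMap R Bq (algebraMap A' R a) • t = a • t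
    rw [← IsScalarTower.algebraMap_apply, algebraMap_smul]
  haveI : IsScalarTower A Bq Tq := IsScalarTower.of_algebraMap_smul fun a t => by
    rw [IsScalarTower.algebraMap_apply A B Bq, algebraMap_smul, algebraMap_smul]
  haveI : IsScalarTower A R Tq := IsScalarTower.of_algebraMap_smul fun a t => by
    show algebraMap R Bq (algebraMap A R a) • t = a • t
    rw [← IsScalarTower.algebraMap_apply, algebraMap_smul]
  have hloc : ∀ (M M' : Type u) [AddCommGroup M] [Module A' M] [Module B M] [IsScalarTower A' B M]
      [AddCommGroup M'] [Module A' M'] [Module B M'] [IsScalarTower A' B M'] (f : M →ₗ[B] M'),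
      IsLocalizedModule q.asIdeal.primeCompl f → IsLocalizedModule P.primeCompl (f.restrictScalars A') := by
    intro M M' _ _ _ _ _ _ _ _ f hf
    refine ⟨fun s => ?_, fun y => ?_, fun {x y} h => ?_⟩
    · have h := hf.map_units (⟨π.toRingHom s.1, s.2⟩ : q.asIdeal.primeCompl)
      rw [Module.End.isUnit_iff] at h ⊢
      refine ⟨fun a b hab => h.1 ?_, fun a => ?_⟩
      · show algebraMap A' B s.1 • a = algebraMap A' B s.1 • b
        rw [algebraMap_smul, algebraMap_smul]
        exact hab
      · obtain ⟨b, hb⟩ := h.2 a
        refine ⟨b, ?_⟩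
        show s.1 • b = a
        rw [← algebraMap_smul B s.1 b]
        exact hb
    · obtain ⟨⟨x, s⟩, h⟩ := hf.surj y
      obtain ⟨a, ha⟩ := hπ s.1
      refine ⟨⟨x, ⟨a, show π.toRingHom a ∉ q.asIdeal by rw [show π.toRingHom a = s.1 from ha]; exact s.2⟩⟩, ?_⟩
      show a • y = f x
      rw [← algebraMap_smul B a y]
      exact (congrArg (· • y) ha).trans h
    · obtain ⟨s, hs⟩ := hf.exists_of_eq h
      obtain ⟨a, ha⟩ := hπ s.1
      refine ⟨⟨a, show π.toRingHom a ∉ q.asIdeal by rw [show π.toRingHom a = s.1 from ha]; exact s.2⟩, ?_⟩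
      show a • x = a • y
      rw [← algebraMap_smul B a x, ← algebraMap_smul B a y, show algebraMap A' B a = s.1 from ha]
      exact hs
  haveI := hloc T Tq (LocalizedModule.mkLinearMap q.asIdeal.primeCompl T) inferInstance
  haveI := hloc B Bq (Algebra.linearMap B Bq)
    (isLocalizedModule_iff_isLocalization.2 (by simpa using (inferInstance : IsLocalization.AtPrime Bq q.asIdeal)))
  rw [length_tor_localized (R := R) N i ((Algebra.linearMap B Bq).restrictScalars A')
      (IsLocalizedModule.isBaseChange P.primeCompl R _)
      ((LocalizedModule.mkLinearMap q.asIdeal.primeCompl T).restrictScalars A')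
      (IsLocalizedModule.isBaseChange P.primeCompl R _), IsLocalRing.length_restrictScalars A Bq Tq, mul_comm]
  congr 1
  rw [Module.length_eq_finrank]
  rfl

/-- The intersection number of a semilocal algebra. -/
theorem chi_semilocal [IsRegularLocalRing A] [Fintype (MaximalSpectrum B)] (N : Type u) [AddCommGroup N]
    [Module A N] [Module.Finite A N] (hmeet : IntMultRegLib.Meet (R := A) B N) :
    IntMult.chi A B N = ∑ q : MaximalSpectrum B,
      ∑ᶠ i : ℕ, (-1 : ℤ) ^ i * ((Module.length A (DRing.Tor A i (Localization.AtPrime q.asIdeal) N)).toNat : ℤ) := by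
  have hfin : ∀ i, Module.length A (DRing.Tor A i B N) ≠ ⊤ := fun i =>
    Module.length_ne_top_iff.2 (IntMultRegLib.isFiniteLength_tor hmeet i)
  have hsum : ∀ i, ((Module.length A (DRing.Tor A i B N)).toNat : ℤ) = ∑ q : MaximalSpectrum B,
      ((Module.length A (DRing.Tor A i (Localization.AtPrime q.asIdeal) N)).toNat : ℤ) := fun i => by
    rw [length_tor_sum N i (hfin i)]
    refine CycDivLib.toNat_sum _ _ fun q _ h => hfin i ?_
    rw [length_tor_sum N i (hfin i), ← top_le_iff, ← h]
    exact Finset.single_le_sum (fun q _ => zero_le (a := Module.length A (DRing.Tor A i (Localization.AtPrime q.asIdeal) N)))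
      (Finset.mem_univ q)
  let b := (maximalIdeal A).spanFinrank + 1
  have hvan : ∀ i, b ≤ i → ∀ q : MaximalSpectrum B,
      ((Module.length A (DRing.Tor A i (Localization.AtPrime q.asIdeal) N)).toNat : ℤ) = 0 := fun i hi q => by
    haveI := IntMultRegLib.subsingleton_tor_regular (R := A) B N i (by omega)
    have h := hsum i
    rw [Module.length_eq_zero, ENat.toNat_zero, Nat.cast_zero] at h
    exact (Finset.sum_eq_zero_iff_of_nonneg fun q _ => Nat.cast_nonneg _).1 h.symm q (Finset.mem_univ q)
  have hsupp : ∀ F : ℕ → ℤ, (∀ i, b ≤ i → F i = 0) → ∑ᶠ i, F i = ∑ i ∈ Finset.range b, F i := fun F hF =>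
    finsum_eq_sum_of_support_subset _ fun i hi => Finset.mem_coe.2 (Finset.mem_range.2 (not_le.1 fun h => hi (hF i h)))
  rw [IntMult.chi, hsupp _ fun i hi => by rw [hsum i, Finset.sum_eq_zero fun q _ => hvan i hi q, mul_zero]]
  rw [Finset.sum_congr rfl fun q _ => hsupp _ fun i hi => by rw [hvan i hi q, mul_zero], Finset.sum_comm]
  exact Finset.sum_congr rfl fun i _ => by rw [hsum i, Finset.mul_sum]

end CycProjLib

end
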