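import Groth.Agent.CycProjLib.Pull
import Groth.Agent.P1InterLib.FibreProd

/-!
# The projection formula for two points
-/

set_option autoImplicit false
set_option backward.isDefEq.respectTransparency false
set_option backward.isDefEq.respectTransparency.types false
set_option linter.style.haveILetI false

universe u

open CategoryTheory CategoryTheory.Limits AlgebraicGeometry TopologicalSpace Topology
open EquidimLib (stalkPt)
open CycDivLib (primeOf stalkPt_primeOf)
open DiagTorLib (single single_self single_ne)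
open TensorProduct

noncomputable section

namespace CycProjLib

/-- The residue degree through the induced map of residue fields of local rings. -/
theorem residueDegree_eq {X Y : Scheme.{u}} (f : X ⟶ Y) (x : X) [Algebra (Y.presheaf.stalk (f x)) (X.presheaf.stalk x)]
    [IsLocalHom (algebraMap (Y.presheaf.stalk (f x)) (X.presheaf.stalk x))]
    (h : algebraMap (Y.presheaf.stalk (f x)) (X.presheaf.stalk x) = (f.stalkMap x).hom) :
    Module.finrank (IsLocalRing.ResidueField (Y.presheaf.stalk (f x))) (IsLocalRing.ResidueField (X.presheaf.stalk x)) =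
      f.residueDegree x := by
  unfold Scheme.Hom.residueDegree
  letI := (f.residueFieldMap x).hom.toAlgebra
  refine Algebra.finrank_eq_of_equiv_equiv (RingEquiv.refl (Y.residueField (f x))) (RingEquiv.refl (X.residueField x)) ?_
  refine RingHom.ext fun z => ?_
  obtain ⟨z, rfl⟩ := IsLocalRing.residue_surjective z
  show f.residueFieldMap x (Y.residue (f x) z) = X.residue x (algebraMap (Y.presheaf.stalk (f x)) (X.presheaf.stalk x) z)
  rw [h]
  exact congrArg (fun φ : Y.presheaf.stalk (f x) ⟶ X.residueField x => φ z) (Scheme.residue_residueFieldMap f x)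

variable {K : Type u} [Field K] [IsAlgClosed K] {Z X Y : Scheme.{u}} (gX : X ⟶ Spec (CommRingCat.of K)) [Smooth gX]
  [IsSeparated gX] [QuasiCompact gX] [IsIntegral X] [IsIntegral Z] (δX : X → ℤ)
  (hδX : Cyc.DeltaCompat gX δX (fun _ => 0)) (hX : Cyc.IsSetup X δX) (n : ℤ) (hn : δX (genericPoint X) = n)
  (δY : Y → ℤ) (hY : Cyc.IsSetup Y δY) (i : Z ⟶ X) [IsClosedImmersion i] (f : X ⟶ Y) [Flat f] [IsProper f] (e : ℕ)
  (hrel : Cyc.HasRelDim f e) (hδ : Cyc.DeltaCompat f δX δY)

include gX hδX hX hn hY hrel hδ in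
/-- The term of one point of the fibre. -/
theorem loc_term (z : Z) (w : Y) (s : ℤ) (hws : δY w = s) (hw : w ⤳ f (i z))
    (hone : ∀ ω, i (genericPoint Z) ⤳ ω → w ⤳ f ω → ω ⤳ i z → ω = i z)
    (hdim : δX (i (genericPoint Z)) + s + e - n = δX (i z))
    [Algebra (Y.presheaf.stalk (f (i z))) (Z.presheaf.stalk z)]
    (halg : algebraMap (Y.presheaf.stalk (f (i z))) (Z.presheaf.stalk z) = ((i ≫ f).stalkMap z).hom) :
    ∑ᶠ j : ℕ, (-1 : ℤ) ^ j * ((Module.length (Y.presheaf.stalk (f (i z))) (DRing.Tor (Y.presheaf.stalk (f (i z))) j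
        (Z.presheaf.stalk z) (↑(Y.presheaf.stalk (f (i z))) ⧸ (primeOf hw).asIdeal))).toNat : ℤ) =
      (f.residueDegree (i z) : ℤ) *
        IntMult.interProd δX n (single (i (genericPoint Z))) (Cyc.pullFun f δX δY e (single w)) (i z) := by
  let A := Y.presheaf.stalk (f (i z))
  let R := X.presheaf.stalk (i z)
  let C := Z.presheaf.stalk z
  letI : Algebra A R := (f.stalkMap (i z)).hom.toAlgebra
  letI : Algebra R C := (i.stalkMap z).hom.toAlgebra
  haveI : IsScalarTower A R C := IsScalarTower.of_algebraMap_eq fun a => by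
    rw [halg, Scheme.Hom.stalkMap_comp]
    rfl
  haveI : IsLocalHom (algebraMap A R) := inferInstanceAs (IsLocalHom (f.stalkMap (i z)).hom)
  haveI : Module.Flat A R := Flat.stalkMap f (i z)
  rw [finsum_tor_local (R := R) C, residueDegree_eq f (i z) rfl]
  congr 1
  have hg : i (genericPoint Z) ⤳ i z := ((genericPoint_spec Z).specializes trivial).map i.continuous
  have hPg : (primeOf hg).asIdeal = RingHom.ker (Algebra.ofId R C).toRingHom := by
    show _ = RingHom.ker (i.stalkMap z).hom
    rw [← DiagTorLib.stalkIdeal_ker, P1InterLib.ker_eq_ptIdeal i, DiagTorLib.stalkIdeal_ptIdeal hg]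
  have hs : Function.Surjective (Algebra.linearMap R C) := i.stalkMap_surjective z
  let eC : (R ⧸ (primeOf hg).asIdeal) ≃ₗ[R] C :=
    (Submodule.quotEquivOfEq _ _ (by rw [hPg]; ext a; rfl)).trans ((Algebra.linearMap R C).quotKerEquivOfSurjective hs)
  rw [interProd_single_pull gX δX hδX hX n hn δY hY f e hrel hδ (i (genericPoint Z)) w (i z) s hws hg hw hone hdim]
  exact (DiagTorLib.chi_congr_pair eC
    (Ideal.qoutMapEquivTensorQout R (I := (primeOf hw).asIdeal))).symm

include gX hδX hX hn hY hrel hδ in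
/-- The projection formula for a point of a closed subvariety and a point of the base. -/
theorem push_interProd_single {K' : Type u} [Field K'] [IsAlgClosed K'] (gY : Y ⟶ Spec (CommRingCat.of K'))
    [Smooth gY] [IsSeparated gY] [QuasiCompact gY] [IsIntegral Y] (hδY : Cyc.DeltaCompat gY δY (fun _ => 0))
    (m : ℤ) (hm : δY (genericPoint Y) = m) (he : (e : ℤ) = n - m)
    (r s k : ℤ) (hr : δX (i (genericPoint Z)) = r) (w : Y) (hws : δY w = s) (hk : k = r + s - m)
    (ζ : Y) (hζ : δY ζ = k) (hv : f (i (genericPoint Z)) ⤳ ζ) (hw : w ⤳ ζ)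
    (hprop : ∀ z : Z, w ⤳ f (i z) → δX (i z) ≤ k) :
    ∑ᶠ z ∈ ⇑(i ≫ f) ⁻¹' {ζ}, (f.residueDegree (i z) : ℤ) *
        IntMult.interProd δX n (single (i (genericPoint Z))) (Cyc.pullFun f δX δY e (single w)) (i z) =
      (if δY (f (i (genericPoint Z))) = r then (f.residueDegree (i (genericPoint Z)) : ℤ) else 0) *
        IntMult.chi (Y.presheaf.stalk ζ) (↑(Y.presheaf.stalk ζ) ⧸ (primeOf hv).asIdeal)
          (↑(Y.presheaf.stalk ζ) ⧸ (primeOf hw).asIdeal) := by
  classical
  haveI := hX.1
  haveI := hY.1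
  haveI : IsLocallyNoetherian Z := LocallyOfFiniteType.isLocallyNoetherian i
  let g := i ≫ f
  have hge : ∀ x : X, δY (f x) ≤ δX x := fun x => by
    obtain ⟨a, -, ha⟩ := hδ x
    omega
  have hxk : ∀ z : Z, g z = ζ → δX (i z) = k := fun z hz => by
    have h1 := hprop z (by rw [show f (i z) = ζ from hz]; exact hw)
    have h2 := hge (i z)
    rw [show f (i z) = ζ from hz, hζ] at h2
    omega
  have honeX : ∀ z : Z, g z = ζ → ∀ ω, i (genericPoint Z) ⤳ ω → w ⤳ f ω → ω ⤳ i z → ω = i z := fun z hz ω h1 h2 h3 => by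
    obtain ⟨z', rfl⟩ := i.isClosedEmbedding.isClosed_range.stableUnderSpecialization h1 ⟨_, rfl⟩
    have h4 := P1InterLib.delta_mono δX hX h3
    have h5 := hprop z' h2
    have h6 := hxk z hz
    exact (h4.2 (by omega)).symm ▸ rfl
  have honeY : ∀ ω, f (i (genericPoint Z)) ⤳ ω → w ⤳ ω → ω ⤳ ζ → ω = ζ := fun ω h1 h2 h3 => by
    haveI : IsProper g := inferInstanceAs (IsProper (i ≫ f))
    obtain ⟨z, rfl⟩ := g.isClosedMap.isClosed_range.stableUnderSpecialization h1 ⟨genericPoint Z, rfl⟩
    have h4 := P1InterLib.delta_mono δY hY h3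
    have h5 := hprop z h2
    have h6 := hge (i z)
    exact h4.2 (by
      have h7 : δY (g z) ≤ k := le_trans h6 h5
      omega)
  -- the fibre
  haveI : IsProper g := inferInstanceAs (IsProper (i ≫ f))
  have hfin : (g ⁻¹' {ζ}).Finite := by
    obtain ⟨V, hV, hyV, -⟩ := exists_isAffineOpen_mem_and_subset (X := Y) (x := ζ) (U := ⊤) trivial
    have hK : IsCompact (g ⁻¹' (V : Set Y)) := QuasiCompact.isCompact_preimage (f := g) _ V.isOpen hV.isCompact
    choose W hW hzW _ using fun z : Z => exists_isAffineOpen_mem_and_subset (X := Z) (x := z) (U := ⊤) trivial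
    obtain ⟨t, ht⟩ := hK.elim_finite_subcover (fun z => (W z : Set Z)) (fun z => (W z).isOpen)
      fun z _ => Set.mem_iUnion.2 ⟨z, hzW z⟩
    refine (t.finite_toSet.biUnion fun z _ => CycC1Lib.finite_gen_inter_affine g (hW z) ζ).subset ?_
    intro z hz
    obtain ⟨u, hu, hzu⟩ := Set.mem_iUnion₂.1 (ht (show g z ∈ V by rw [show g z = ζ from hz]; exact hyV))
    refine Set.mem_biUnion hu ⟨hzu, fun z' hz' hsp => i.isClosedEmbedding.injective ?_, hz⟩
    have h4 := P1InterLib.delta_mono δX hX (hsp.map i.continuous)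
    have h5 := hxk z hz
    have h6 := hxk z' (hz'.trans hz)
    exact (h4.2 (by omega))
  obtain ⟨V₁, hyV₁, hV₁⟩ := exists_isFinite_morphismRestrict_of_finite_preimage_singleton g ζ hfin
  obtain ⟨_, ⟨V, hV, rfl⟩, hy, hVV⟩ := Y.isBasis_affineOpens.exists_subset_of_mem_open hyV₁ V₁.isOpen
  haveI : IsFinite (g ∣_ V) := BiratLib.restrict_of_le g (P := @IsFinite) hVV hV₁
  haveI : IsAffine (V : Scheme.{u}) := hV
  have hU : IsAffineOpen (g ⁻¹ᵁ V) := isAffine_of_isAffineHom (g ∣_ V)
  let A₀ := Γ(Y, V)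
  let B₀ := Γ(Z, g ⁻¹ᵁ V)
  letI : Algebra A₀ B₀ := (g.app V).hom.toAlgebra
  haveI : Module.Finite A₀ B₀ := BiratLib.finite_app_of_restrict g V inferInstance
  let 𝔭 := hV.primeIdealOf ⟨ζ, hy⟩
  let A := Y.presheaf.stalk ζ
  haveI : IsRegularLocalRing A := WeilExtLib.isRegular_stalk_smooth gY ζ
  letI := Y.presheaf.algebra_section_stalk (⟨ζ, hy⟩ : V)
  haveI : IsLocalization.AtPrime A 𝔭.asIdeal := hV.isLocalization_stalk ⟨ζ, hy⟩
  let M := Algebra.algebraMapSubmonoid B₀ 𝔭.asIdeal.primeCompl
  let B := Localization M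
  letI : Algebra A B := (IsLocalization.map B (algebraMap A₀ B₀)
    (show 𝔭.asIdeal.primeCompl ≤ M.comap (algebraMap A₀ B₀) from fun a ha => ⟨a, ha, rfl⟩) : A →+* B).toAlgebra
  haveI : IsScalarTower A₀ A B := IsScalarTower.of_algebraMap_eq fun a => by
    rw [IsScalarTower.algebraMap_apply A₀ B₀ B]
    exact (IsLocalization.map_eq _ a).symm
  haveI : Module.Finite A B := Module.Finite.of_isLocalization A₀ B₀ 𝔭.asIdeal.primeCompl
  obtain ⟨eq', heq', hrange, hpt⟩ := CycPushLib.exists_semilocal_fibre g hV hU hy (fun _ => rfl) A B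
  haveI : Finite (MaximalSpectrum B) := by
    haveI : Finite ↥(g ⁻¹' {ζ}) := hfin.to_subtype
    exact Finite.of_injective (fun q => (⟨eq' q, hrange.le ⟨q, rfl⟩⟩ : g ⁻¹' {ζ})) fun a b h =>
      heq' (congrArg Subtype.val h)
  letI : Fintype (MaximalSpectrum B) := Fintype.ofFinite _
  -- the function field
  have hηU : genericPoint Z ∈ g ⁻¹ᵁ V := hv.mem_open V.isOpen hy
  haveI : Nonempty ↥(g ⁻¹ᵁ V : Z.Opens) := ⟨⟨_, hηU⟩⟩
  haveI : Nonempty ((g ⁻¹ᵁ V : Z.Opens) : Scheme.{u}) := ⟨⟨_, hηU⟩⟩
  let F := Z.functionField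
  haveI : IsFractionRing B₀ F := functionField_isFractionRing_of_isAffineOpen Z _ hU
  let χv : A →+* F := (Y.presheaf.stalkSpecializes hv ≫ g.stalkMap (genericPoint Z)).hom
  have hgermv : ∀ a : A₀, χv (algebraMap A₀ A a) = algebraMap B₀ F (g.app V a) := fun a => by
    show g.stalkMap (genericPoint Z) (Y.presheaf.stalkSpecializes hv (Y.presheaf.germ V ζ hy a)) = _
    rw [TopCat.Presheaf.germ_stalkSpecializes_apply]
    exact g.germ_stalkMap_apply V (genericPoint Z) hηU a
  have hunitB : ∀ y : M, IsUnit (algebraMap B₀ F y) := by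
    rintro ⟨_, a, ha, rfl⟩
    show IsUnit (algebraMap B₀ F (g.app V a))
    rw [← hgermv]
    exact RingHom.isUnit_map χv (IsLocalization.map_units A ⟨a, ha⟩)
  let ψ : B →+* F := IsLocalization.lift hunitB
  have hψinj : Function.Injective ψ := by
    refine (injective_iff_map_eq_zero ψ).2 fun x hx => ?_
    obtain ⟨b, t, rfl⟩ := IsLocalization.exists_mk'_eq M x
    have hb : b = 0 := IsFractionRing.injective B₀ F (by
      have h : ψ (IsLocalization.mk' B b t * algebraMap B₀ B t) = 0 := by rw [map_mul, hx, zero_mul]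
      rw [IsLocalization.mk'_spec, IsLocalization.lift_eq] at h
      rw [h, map_zero])
    rw [hb, IsLocalization.mk'_zero]
  have hψA : ψ.comp (algebraMap A B) = χv := IsLocalization.ringHom_ext 𝔭.asIdeal.primeCompl (RingHom.ext fun a => by
    show ψ (algebraMap A B (algebraMap A₀ A a)) = χv (algebraMap A₀ A a)
    rw [← IsScalarTower.algebraMap_apply A₀ A B, IsScalarTower.algebraMap_apply A₀ B₀ B, IsLocalization.lift_eq, hgermv]
    rfl)
  let Pv := primeOf hv
  let N := A ⧸ (primeOf hw).asIdeal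
  have hχ0 : ∀ a : A, χv a = 0 ↔ a ∈ Pv.asIdeal := fun a => by
    show _ ↔ Y.presheaf.stalkSpecializes hv a ∈ IsLocalRing.maximalIdeal (Y.presheaf.stalk (g (genericPoint Z)))
    refine Iff.trans ?_ (IsLocalRing.mem_maximalIdeal _).symm
    rw [mem_nonunits_iff, ← isUnit_map_iff (g.stalkMap (genericPoint Z)).hom]
    exact (not_iff_not.2 (isUnit_iff_ne_zero (G₀ := F))).trans not_ne_iff |>.symm
  have hker : ∀ a ∈ Pv.asIdeal, algebraMap A B a = 0 := fun a ha => hψinj (by
    rw [map_zero]
    exact (RingHom.congr_fun hψA a).trans ((hχ0 a).2 ha))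
  have hannB : Pv.asIdeal ≤ Module.annihilator A B := fun a ha => Module.mem_annihilator.2 fun b => by
    rw [Algebra.smul_def, hker a ha, zero_mul]
  have hmax : ∀ p : PrimeSpectrum A, Pv.asIdeal ⊔ Module.annihilator A N ≤ p.asIdeal → p.asIdeal.IsMaximal := by
    intro p hp
    rw [Ideal.annihilator_quotient] at hp
    have h1 : f (i (genericPoint Z)) ⤳ stalkPt ζ p := by
      have := EquidimLib.specializes_stalkPt (x := ζ) (show Pv ≤ p from le_sup_left.trans hp)
      rwa [stalkPt_primeOf] at this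
    have h2 : w ⤳ stalkPt ζ p := by
      have := EquidimLib.specializes_stalkPt (x := ζ) (show primeOf hw ≤ p from le_sup_right.trans hp)
      rwa [stalkPt_primeOf] at this
    obtain rfl : p = IsLocalRing.closedPoint A := EquidimLib.stalkPt_injective ζ
      ((honeY _ h1 h2 (EquidimLib.stalkPt_specializes ζ p)).trans Scheme.fromSpecStalk_closedPoint.symm)
    exact IsLocalRing.maximalIdeal.isMaximal _
  -- the side of the fibre
  have hterm : ∀ (z : Z) (ζ' : Y) (h : g z = ζ') (hw' : w ⤳ ζ'), ζ' = ζ →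
      (letI : Algebra (Y.presheaf.stalk ζ') (Z.presheaf.stalk z) :=
        (Y.presheaf.stalkSpecializes (specializes_of_eq h) ≫ g.stalkMap z).hom.toAlgebra
       ∑ᶠ j : ℕ, (-1 : ℤ) ^ j * ((Module.length (Y.presheaf.stalk ζ') (DRing.Tor (Y.presheaf.stalk ζ') j
          (Z.presheaf.stalk z) (↑(Y.presheaf.stalk ζ') ⧸ (primeOf hw').asIdeal))).toNat : ℤ)) =
        (f.residueDegree (i z) : ℤ) *
          IntMult.interProd δX n (single (i (genericPoint Z))) (Cyc.pullFun f δX δY e (single w)) (i z) := by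
    rintro z _ rfl hw' hz
    letI : Algebra (Y.presheaf.stalk (f (i z))) (Z.presheaf.stalk z) :=
      (Y.presheaf.stalkSpecializes (specializes_of_eq (rfl : g z = g z)) ≫ g.stalkMap z).hom.toAlgebra
    refine loc_term gX δX hδX hX n hn δY hY i f e hrel hδ z w s hws hw' (honeX z hz) ?_ ?_
    · rw [hxk z hz]
      omega
    · show (Y.presheaf.stalkSpecializes (specializes_refl (g z)) ≫ g.stalkMap z).hom = _
      rw [TopCat.Presheaf.stalkSpecializes_refl, Category.id_comp]
  have hB : IntMult.chi A B N = ∑ᶠ z ∈ g ⁻¹' {ζ}, (f.residueDegree (i z) : ℤ) *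
      IntMult.interProd δX n (single (i (genericPoint Z))) (Cyc.pullFun f δX δY e (single w)) (i z) := by
    rw [chi_semilocal N (fun p hp => hmax p ((sup_le_sup_right hannB _).trans hp)), ← hrange, finsum_mem_range heq',
      finsum_eq_sum_of_fintype]
    refine Finset.sum_congr rfl fun q _ => ?_
    obtain ⟨hxU, hloc, -⟩ := hpt q
    have hz : g (eq' q) = ζ := hrange.le ⟨q, rfl⟩
    rw [← hterm (eq' q) ζ hz hw rfl]
    letI : Algebra A (Z.presheaf.stalk (eq' q)) :=
      (Y.presheaf.stalkSpecializes (specializes_of_eq hz) ≫ g.stalkMap (eq' q)).hom.toAlgebra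
    haveI := hloc
    letI := Z.presheaf.algebra_section_stalk (⟨eq' q, hxU⟩ : (g ⁻¹ᵁ V : Z.Opens))
    haveI := hU.isLocalization_stalk ⟨eq' q, hxU⟩
    let gC : Localization.AtPrime q.asIdeal ≃ₐ[B₀] Z.presheaf.stalk (eq' q) :=
      IsLocalization.algEquiv (hU.primeIdealOf ⟨eq' q, hxU⟩).asIdeal.primeCompl _ _
    have key : gC.toRingEquiv.toRingHom.comp (algebraMap A (Localization.AtPrime q.asIdeal)) =
        algebraMap A (Z.presheaf.stalk (eq' q)) :=
      IsLocalization.ringHom_ext 𝔭.asIdeal.primeCompl (RingHom.ext fun a => by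
        show gC (algebraMap A (Localization.AtPrime q.asIdeal) (algebraMap A₀ A a)) =
          g.stalkMap (eq' q) (Y.presheaf.stalkSpecializes (specializes_of_eq hz) (Y.presheaf.germ V ζ hy a))
        rw [IsScalarTower.algebraMap_apply A B (Localization.AtPrime q.asIdeal),
          ← IsScalarTower.algebraMap_apply A₀ A B, IsScalarTower.algebraMap_apply A₀ B₀ B,
          ← IsScalarTower.algebraMap_apply B₀ B (Localization.AtPrime q.asIdeal), AlgEquiv.commutes,
          TopCat.Presheaf.germ_stalkSpecializes_apply]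
        exact (g.germ_stalkMap_apply V (eq' q) hxU a).symm)
    let lC : Localization.AtPrime q.asIdeal ≃ₗ[A] Z.presheaf.stalk (eq' q) :=
      gC.toRingEquiv.toAddEquiv.toLinearEquiv fun a b => by
        show gC (a • b) = a • gC b
        rw [Algebra.smul_def, map_mul, Algebra.smul_def, ← key]
        rfl
    refine finsum_congr fun j => ?_
    obtain ⟨e'⟩ := DiagTorLib.nonempty_tor_congr lC (LinearEquiv.refl A N) j
    rw [e'.length_eq]
  -- the side of the base
  have hvr : δY (f (i (genericPoint Z))) ≤ r := hr ▸ hge _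
  have hmono : ∀ Q : PrimeSpectrum A, Pv.asIdeal ≤ Q.asIdeal →
      δY (stalkPt ζ Q) ≤ δY (f (i (genericPoint Z))) ∧
        (δY (stalkPt ζ Q) = δY (f (i (genericPoint Z))) → Q = Pv) := fun Q hQ => by
    have h1 := P1InterLib.delta_mono δY hY (EquidimLib.specializes_stalkPt (x := ζ) (show Pv ≤ Q from hQ))
    rw [stalkPt_primeOf] at h1
    exact ⟨h1.1, fun h => EquidimLib.stalkPt_injective ζ ((h1.2 h).symm.trans (stalkPt_primeOf hv).symm)⟩
  rw [← hB, IntMultRegLib.chi_eq_sum N Pv.asIdeal hmax (if δY (f (i (genericPoint Z))) = r then {Pv} else ∅)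
    (fun Q hQ R hR hRQ => by
      split_ifs at hQ
      · rw [Finset.mem_singleton] at hQ
        subst hQ
        exact PrimeSpectrum.ext (le_antisymm hRQ hR)
      · simp at hQ)
    (fun Q hQ hQT => by
      refine DiagTorLib.chi_primes_eq_zero gY δY hδY m hm Q (primeOf hw) (fun ω h1 h2 h3 => ?_) ?_
      · rw [stalkPt_primeOf] at h2
        have h4 : f (i (genericPoint Z)) ⤳ stalkPt ζ Q := by
          have := EquidimLib.specializes_stalkPt (x := ζ) (show Pv ≤ Q from hQ)
          rwa [stalkPt_primeOf] at this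
        exact honeY ω (h4.trans h1) h2 h3
      · obtain ⟨h1, h2⟩ := hmono Q hQ
        rw [stalkPt_primeOf]
        by_cases h : δY (f (i (genericPoint Z))) = r
        · rw [if_pos h, Finset.mem_singleton] at hQT
          have : δY (stalkPt ζ Q) ≠ δY (f (i (genericPoint Z))) := fun h' => hQT (h2 h')
          omega
        · omega)
    B (fun p hp => hannB.trans hp)]
  split_ifs with hdr
  swap
  · rw [Finset.sum_empty, zero_mul]
  rw [Finset.sum_singleton]
  congr 1
  -- the degree
  let v := g (genericPoint Z)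
  let L := Y.presheaf.stalk v
  letI : Algebra A F := χv.toAlgebra
  letI : Algebra A L := (Y.presheaf.stalkSpecializes hv).hom.toAlgebra
  haveI : IsLocalization.AtPrime L Pv.asIdeal := CycDivLib.isLocalization_stalkSpecializes hv
  letI : Algebra L F := (g.stalkMap (genericPoint Z)).hom.toAlgebra
  haveI : IsScalarTower A L F := IsScalarTower.of_algebraMap_eq fun _ => rfl
  let ψl : B →ₗ[A] F :=
    { toFun := ψ, map_add' := map_add ψ,
      map_smul' := fun a b => by
        rw [Algebra.smul_def, map_mul, RingHom.id_apply, Algebra.smul_def]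
        exact congrArg (· * ψ b) (RingHom.congr_fun hψA a) }
  haveI : IsDomain B := hψinj.isDomain ψ
  haveI : Algebra.IsIntegral A B := Algebra.IsIntegral.of_finite A B
  have hden : ∀ c : B, c ≠ 0 → ∃ (a : A) (d : B), a ∉ Pv.asIdeal ∧ algebraMap A B a = d * c := by
    intro c hc
    by_contra hcon
    push Not at hcon
    have hdisj : Disjoint (↑(Ideal.span {c}) : Set B) ↑(Algebra.algebraMapSubmonoid B Pv.asIdeal.primeCompl) := by
      refine Set.disjoint_left.2 ?_
      rintro x hx ⟨a, ha, rfl⟩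
      obtain ⟨d, hd⟩ := Ideal.mem_span_singleton'.1 hx
      exact hcon a d ha hd.symm
    obtain ⟨p, hp, hcp, hpd⟩ := Ideal.exists_le_prime_disjoint _ _ hdisj
    have hlt : (⊥ : Ideal B).comap (algebraMap A B) < p.comap (algebraMap A B) :=
      Ideal.comap_lt_comap_of_integral_mem_sdiff bot_le
        ⟨hcp (Ideal.mem_span_singleton_self c), fun h => hc (Ideal.mem_bot.1 h)⟩ (Algebra.IsIntegral.isIntegral c)
    obtain ⟨a, ha1, ha2⟩ := SetLike.exists_of_lt hlt
    refine Set.disjoint_left.1 hpd ha1 ⟨a, fun h => ha2 ?_, rfl⟩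
    rw [Ideal.mem_comap, hker a h]
    exact zero_mem _
  haveI : IsLocalizedModule Pv.asIdeal.primeCompl ψl := by
    have hne : ∀ a : Pv.asIdeal.primeCompl, algebraMap A F a.1 ≠ 0 := fun a h => a.2 ((hχ0 a.1).1 h)
    refine ⟨fun a => ?_, fun y => ?_, fun {x y} h => ⟨1, by rw [hψinj h]⟩⟩
    · rw [Module.End.isUnit_iff]
      refine ⟨fun x y hxy => mul_left_cancel₀ (hne a) ?_, fun y => ⟨(algebraMap A F a.1)⁻¹ * y, ?_⟩⟩
      · have hxy' : a.1 • x = a.1 • y := hxy
        rwa [Algebra.smul_def, Algebra.smul_def] at hxy'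
      · show algebraMap A F a.1 * ((algebraMap A F a.1)⁻¹ * y) = y
        rw [← mul_assoc, mul_inv_cancel₀ (hne a), one_mul]
    · obtain ⟨⟨b, c⟩, hbc⟩ := IsLocalization.surj (nonZeroDivisors B₀) y
      have hc0 : algebraMap B₀ B c.1 ≠ 0 := fun h => nonZeroDivisors.coe_ne_zero c (IsFractionRing.injective B₀ F
        ((IsLocalization.lift_eq hunitB c.1).symm.trans ((congrArg ψ h).trans ((map_zero ψ).trans (map_zero _).symm))))
      obtain ⟨a, d, ha, had⟩ := hden _ hc0
      refine ⟨⟨d * algebraMap B₀ B b, ⟨a, ha⟩⟩, ?_⟩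
      show a • y = ψ (d * algebraMap B₀ B b)
      rw [Algebra.smul_def, show algebraMap A F a = ψ (algebraMap A B a) from (RingHom.congr_fun hψA a).symm, had,
        map_mul, map_mul, IsLocalization.lift_eq, IsLocalization.lift_eq, mul_assoc, ← hbc, mul_comm y]
  haveI : IsLocalHom (algebraMap L F) := inferInstanceAs (IsLocalHom (g.stalkMap (genericPoint Z)).hom)
  have hlen : IntMultRegLib.lenAt Pv B = Module.length L F :=
    DvrLenLib.length_eq_of_isLocalizedModule Pv.asIdeal.primeCompl
      (LocalizedModule.mkLinearMap Pv.asIdeal.primeCompl B) ψl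
  rw [hlen, toNat_length_restrict (R := F) F, residueDegree_eq g (genericPoint Z) rfl, Module.length_eq_one,
    ENat.toNat_one, mul_one, CycPushLib.residueDegree_comp, CycPushLib.residueDegree_eq_one_of_preimmersion i, one_mul]

end CycProjLib

end
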