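import Groth.Agent.CycProjLib.Geom
import Groth.Agent.CycLimLib.Gen

/-!
# The projection formula for cycles
-/

set_option autoImplicit false
set_option backward.isDefEq.respectTransparency false
set_option backward.isDefEq.respectTransparency.types false
set_option linter.style.haveILetI false

universe u

open CategoryTheory CategoryTheory.Limits AlgebraicGeometry TopologicalSpace Topology
open CycDivLib (primeOf stalkPt_primeOf)
open DiagTorLib (single single_self single_ne)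

noncomputable section

namespace CycProjLib

variable {K : Type u} [Field K] [IsAlgClosed K] {X Y : Scheme.{u}} (gX : X ⟶ Spec (CommRingCat.of K))
  (gY : Y ⟶ Spec (CommRingCat.of K)) [Smooth gX] [IsSeparated gX] [QuasiCompact gX] [IsIntegral X] [Smooth gY]
  [IsSeparated gY] [QuasiCompact gY] [IsIntegral Y] (f : X ⟶ Y) [Flat f] [IsProper f] (δX : X → ℤ) (δY : Y → ℤ)
  (hX : Cyc.IsSetup X δX) (hY : Cyc.IsSetup Y δY) (hδX : Cyc.DeltaCompat gX δX (fun _ => 0))
  (hδY : Cyc.DeltaCompat gY δY (fun _ => 0)) (hδ : Cyc.DeltaCompat f δX δY) (n m : ℤ)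
  (hn : δX (genericPoint X) = n) (hm : δY (genericPoint Y) = m) (e : ℕ) (he : (e : ℤ) = n - m)
  (hrel : Cyc.HasRelDim f e) (r s k : ℤ) (hk : k = r + s - m)

include hm in
/-- The product of two single points. -/
theorem interProd_single_single (v w ζ : Y) :
    IntMult.interProd δY m (single v) (single w) ζ =
      Set.indicator {p : Y × Y | p.1 ⤳ ζ ∧ p.2 ⤳ ζ ∧ δY p.1 + δY p.2 - m = δY ζ}
        (fun p => IntMult.mult (IntMult.ptIdeal p.1) (IntMult.ptIdeal p.2) ζ) (v, w) := by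
  classical
  rw [DiagTorLib.interProd_eq_sum δY m (single v) (single w) ζ {v} {w}
    (fun x _ h => Finset.mem_singleton.2 (not_not.1 fun h' => h (single_ne _ _ h')))
    (fun x _ h => Finset.mem_singleton.2 (not_not.1 fun h' => h (single_ne _ _ h'))), Finset.sum_product,
    Finset.sum_singleton, Finset.sum_singleton]
  by_cases hp : (v, w) ∈ {p : Y × Y | p.1 ⤳ ζ ∧ p.2 ⤳ ζ ∧ δY p.1 + δY p.2 - m = δY ζ}
  · rw [Set.indicator_of_mem hp, Set.indicator_of_mem hp, single_self, single_self, one_mul, one_mul]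
  · rw [Set.indicator_of_notMem hp, Set.indicator_of_notMem hp]

variable (ξ : X) (hξ : δX ξ = r) (w : Y) (hw : δY w = s) (hbound : ∀ x, ξ ⤳ x → w ⤳ f x → δX x ≤ k)

include he hk hξ hw in
/-- Where the product of a point with a pulled back point lives. -/
theorem of_interProd_ne_zero {x : X}
    (h : IntMult.interProd δX n (single ξ) (Cyc.pullFun f δX δY e (single w)) x ≠ 0) :
    ξ ⤳ x ∧ w ⤳ f x ∧ δX x = k := by
  by_contra hcon
  refine h (finsum_eq_zero_of_forall_eq_zero fun p => ?_)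
  by_contra hp
  obtain ⟨⟨h1, h2⟩, -⟩ := mul_ne_zero_iff.1 hp |>.imp_left mul_ne_zero_iff.1
  have h3 : p.1.1 = ξ := not_not.1 fun h' => h1 (single_ne _ _ h')
  simp only [Cyc.pullFun] at h2
  split_ifs at h2 with h4
  swap
  · exact h2 rfl
  have h5 : f p.1.2 = w := not_not.1 fun h' => left_ne_zero_of_mul h2 (single_ne _ _ h')
  obtain ⟨p1, p2, p3⟩ := p.2
  rw [h3] at p1 p3
  rw [h5] at h4
  exact hcon ⟨p1, h5 ▸ p2.map f.continuous, by omega⟩

include hX hbound in
/-- Finitely many points of top dimension in the intersection. -/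
theorem finite_top [IsNoetherian X] : {x : X | ξ ⤳ x ∧ w ⤳ f x ∧ δX x = k}.Finite := by
  classical
  have hC : IsClosed (closure {ξ} ∩ f ⁻¹' closure {w}) := isClosed_closure.inter (isClosed_closure.preimage f.continuous)
  obtain ⟨S, hSfin, hScl, hSirr, hSY⟩ := NoetherianSpace.exists_finite_set_isClosed_irreducible hC
  have hg : ∀ t ∈ S, ∃ x : X, closure {x} = t := fun t ht => by
    obtain ⟨x, hx⟩ := QuasiSober.sober (hSirr t ht) (hScl t ht)
    exact ⟨x, hx.def⟩
  choose g hg using hg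
  haveI := hSfin.to_subtype
  refine (Set.finite_range (fun t : S => g t.1 t.2)).subset fun x ⟨h1, h2, h3⟩ => ?_
  obtain ⟨t, ht, hxt⟩ := Set.mem_sUnion.mp (hSY.le (show x ∈ closure {ξ} ∩ f ⁻¹' closure {w} from
    ⟨h1.mem_closure, h2.mem_closure⟩))
  refine ⟨⟨t, ht⟩, ?_⟩
  have hgC : g t ht ∈ closure {ξ} ∩ f ⁻¹' closure {w} :=
    hSY.ge (Set.mem_sUnion.mpr ⟨t, ht, (hg t ht).le (subset_closure rfl)⟩)
  have hsp : g t ht ⤳ x := specializes_iff_mem_closure.mpr ((hg t ht).ge hxt)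
  have h4 := P1InterLib.delta_mono δX hX hsp
  have h5 := hbound _ (specializes_iff_mem_closure.2 hgC.1) (specializes_iff_mem_closure.2 hgC.2)
  exact h4.2 (by omega)

include gX gY hX hY hδX hδY hδ hn hm he hrel hk hξ hw hbound in
/-- The projection formula for a point and a point of the base. -/
theorem map_interProd_single (ζ : Y) :
    ∑ᶠ x ∈ f ⁻¹' {ζ}, IntMult.interProd δX n (single ξ) (Cyc.pullFun f δX δY e (single w)) x *
        ((AlgebraicCycle.mapCoeff f δX δY x : ℕ) : ℤ) =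
      ((AlgebraicCycle.mapCoeff f δX δY ξ : ℕ) : ℤ) * IntMult.interProd δY m (single (f ξ)) (single w) ζ := by
  classical
  have hge : ∀ x : X, δY (f x) ≤ δX x := fun x => by
    obtain ⟨a, -, ha⟩ := hδ x
    omega
  have hRfull : ∀ x ∈ f ⁻¹' {ζ}, IntMult.interProd δX n (single ξ) (Cyc.pullFun f δX δY e (single w)) x *
      ((AlgebraicCycle.mapCoeff f δX δY x : ℕ) : ℤ) ≠ 0 → ξ ⤳ x ∧ w ⤳ ζ ∧ f ξ ⤳ ζ ∧ δY ζ = k := by
    intro x hx h
    obtain ⟨h1, h2, h3⟩ := of_interProd_ne_zero f δX δY n m e he r s k hk ξ hξ w hw (left_ne_zero_of_mul h)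
    have h4 : δX x = δY (f x) := not_not.1 fun h' => right_ne_zero_of_mul h (by
      rw [AlgebraicCycle.mapCoeff, if_neg h', Nat.cast_zero])
    have hx' : f x = ζ := hx
    rw [hx'] at h4 h2
    exact ⟨h1, h2, hx' ▸ h1.map f.continuous, by omega⟩
  rw [interProd_single_single δY m hm]
  by_cases hcond : f ξ ⤳ ζ ∧ w ⤳ ζ ∧ δY ζ = k
  swap
  · rw [finsum_mem_eq_zero_of_forall_eq_zero fun x hx => not_not.1 fun h => ?_]
    · by_cases hp : (f ξ, w) ∈ {p : Y × Y | p.1 ⤳ ζ ∧ p.2 ⤳ ζ ∧ δY p.1 + δY p.2 - m = δY ζ}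
      · obtain ⟨p1, p2, p3⟩ := hp
        have hne : δX ξ ≠ δY (f ξ) := fun h => hcond ⟨p1, p2, by simp only at p3; omega⟩
        rw [AlgebraicCycle.mapCoeff, if_neg hne, Nat.cast_zero, zero_mul]
      · rw [Set.indicator_of_notMem hp, mul_zero]
    · obtain ⟨-, h2, h3, h4⟩ := hRfull x hx h
      exact hcond ⟨h3, h2, h4⟩
  obtain ⟨hv, hwζ, hζ⟩ := hcond
  haveI : IsIntegral (IntMult.ptIdeal ξ).subscheme := NagataFG.isIntegral_closure _
  let Z := (IntMult.ptIdeal ξ).subscheme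
  let i : Z ⟶ X := (IntMult.ptIdeal ξ).subschemeι
  have hrange : ∀ x, x ∈ Set.range i ↔ ξ ⤳ x := fun x => by
    rw [Scheme.IdealSheafData.range_subschemeι]
    exact DiagTorLib.mem_support_ptIdeal _ _
  have hη : i (genericPoint Z) = ξ := by
    obtain ⟨u, hu⟩ := (hrange ξ).2 specializes_rfl
    have h2 : i (genericPoint Z) ⤳ ξ := hu ▸ ((genericPoint_spec Z).specializes trivial).map i.continuous
    exact (h2.antisymm ((hrange _).1 ⟨_, rfl⟩)).eq
  have key := push_interProd_single gX δX hδX hX n hn δY hY i f e hrel hδ gY hδY m hm he r s k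
    (by rw [hη, hξ]) w hw hk ζ hζ (by rw [hη]; exact hv) hwζ
    (fun z hz => hbound _ ((hrange _).1 ⟨z, rfl⟩) hz)
  have hL : ∑ᶠ x ∈ f ⁻¹' {ζ}, IntMult.interProd δX n (single ξ) (Cyc.pullFun f δX δY e (single w)) x *
        ((AlgebraicCycle.mapCoeff f δX δY x : ℕ) : ℤ) =
      ∑ᶠ z ∈ ⇑(i ≫ f) ⁻¹' {ζ}, (f.residueDegree (i z) : ℤ) *
        IntMult.interProd δX n (single (i (genericPoint Z))) (Cyc.pullFun f δX δY e (single w)) (i z) := by
    have hset : f ⁻¹' {ζ} ∩ Set.range i = i '' (⇑(i ≫ f) ⁻¹' {ζ}) := by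
      ext x
      constructor
      · rintro ⟨hx, z, rfl⟩
        exact ⟨z, hx, rfl⟩
      · rintro ⟨z, hz, rfl⟩
        exact ⟨hz, z, rfl⟩
    rw [finsum_mem_inter_support_eq (fun x => IntMult.interProd δX n (single ξ) (Cyc.pullFun f δX δY e (single w)) x *
      ((AlgebraicCycle.mapCoeff f δX δY x : ℕ) : ℤ)) (f ⁻¹' {ζ}) (f ⁻¹' {ζ} ∩ Set.range i) ?_, hset,
      finsum_mem_image i.isEmbedding.injective.injOn]
    · refine finsum_mem_congr rfl fun z hz => ?_
      have h1 : δX (i z) = δY (f (i z)) := by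
        have hz' : f (i z) = ζ := hz
        have h2 := hge (i z)
        have h3 := hbound (i z) ((hrange _).1 ⟨z, rfl⟩) (hz'.symm ▸ hwζ)
        rw [hz'] at h2 ⊢
        omega
      rw [hη, AlgebraicCycle.mapCoeff, if_pos h1, mul_comm]
    · refine Set.Subset.antisymm (fun x hx => ⟨⟨hx.1, ?_⟩, hx.2⟩) fun x hx => ⟨hx.1.1, hx.2⟩
      exact (hrange x).2 (hRfull x hx.1 hx.2).1
  rw [hL, key]
  have hchi : IntMult.mult (IntMult.ptIdeal (f ξ)) (IntMult.ptIdeal w) ζ =
      IntMult.chi (Y.presheaf.stalk ζ) (↑(Y.presheaf.stalk ζ) ⧸ (primeOf hv).asIdeal)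
        (↑(Y.presheaf.stalk ζ) ⧸ (primeOf hwζ).asIdeal) := by
    haveI : IsRegularLocalRing (Y.presheaf.stalk ζ) := WeilExtLib.isRegular_stalk_smooth gY ζ
    rw [IntMult.mult, DiagTorLib.stalkIdeal_ptIdeal hv, DiagTorLib.stalkIdeal_ptIdeal hwζ, IntMultRegLib.chi_comm]
  have hprime : ∀ (a : Y) (ha : a ⤳ ζ) (b : Y) (hb : b ⤳ ζ), a = b → (primeOf ha).asIdeal = (primeOf hb).asIdeal := by
    rintro a ha b hb rfl
    rfl
  rw [hprime _ _ _ hv (congrArg f hη), ← hchi, hη, AlgebraicCycle.mapCoeff]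
  by_cases hd : δY (f ξ) = r
  · rw [if_pos hd, if_pos (hξ.trans hd.symm),
      Set.indicator_of_mem (show (f ξ, w) ∈ {p : Y × Y | p.1 ⤳ ζ ∧ p.2 ⤳ ζ ∧ δY p.1 + δY p.2 - m = δY ζ} from
        ⟨hv, hwζ, by simp only; omega⟩)]
  · rw [if_neg hd, if_neg (fun h => hd (h.symm.trans hξ)), Nat.cast_zero, zero_mul, zero_mul]

include gX gY hX hY hδX hδY hδ hn hm he hrel in
/-- The projection formula. -/
theorem map_interProd_pullFun (hk : k = r + s - m) (α : AlgebraicCycle X ℤ) (β : AlgebraicCycle Y ℤ)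
    (hα : ∀ x, α x ≠ 0 → δX x = r) (hβ : ∀ y, β y ≠ 0 → δY y = s)
    (hbound : ∀ ξ w, α ξ ≠ 0 → β w ≠ 0 → ∀ x, ξ ⤳ x → w ⤳ f x → δX x ≤ k)
    (γ : AlgebraicCycle X ℤ) (hγ : ⇑γ = IntMult.interProd δX n ⇑α (Cyc.pullFun f δX δY e ⇑β)) (ζ : Y) :
    IntMult.interProd δY m ⇑(AlgebraicCycle.map f δX δY α) ⇑β ζ = AlgebraicCycle.map f δX δY γ ζ := by
  classical
  haveI := hX.1
  haveI : CompactSpace X := QuasiCompact.compactSpace_of_compactSpace gX
  haveI : CompactSpace Y := QuasiCompact.compactSpace_of_compactSpace gY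
  haveI : IsNoetherian X := {}
  let S := (CycLimLib.support_finite α).toFinset
  let T := (CycLimLib.support_finite β).toFinset
  have hS : ∀ x, x ∈ S ↔ α x ≠ 0 := fun x => Set.Finite.mem_toFinset _
  have hT : ∀ x, x ∈ T ↔ β x ≠ 0 := fun x => Set.Finite.mem_toFinset _
  let c : X → ℤ := fun x => ((AlgebraicCycle.mapCoeff f δX δY x : ℕ) : ℤ)
  have hmapS : ∀ v, AlgebraicCycle.map f δX δY α v = ∑ ξ ∈ S, α ξ * c ξ * single (f ξ) v := by
    intro v
    show ∑ᶠ x ∈ f ⁻¹' {v}, α x * c x = _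
    rw [finsum_mem_def, finsum_eq_sum_of_support_subset _ (s := S) fun x hx => Finset.mem_coe.2 ((hS x).2 ?_)]
    · refine Finset.sum_congr rfl fun x _ => ?_
      by_cases h : f x = v
      · rw [Set.indicator_of_mem (show x ∈ f ⁻¹' {v} from h), ← h, single_self, mul_one]
      · rw [Set.indicator_of_notMem (show x ∉ f ⁻¹' {v} from h), single_ne _ _ (Ne.symm h), mul_zero]
    · rw [Function.mem_support, Set.indicator_apply_ne_zero] at hx
      exact left_ne_zero_of_mul hx.2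
  rw [DiagTorLib.interProd_sum δY m _ ⇑β ζ S T (fun ξ => α ξ * c ξ) ⇑β (fun ξ => single (f ξ)) (fun w => single w)
    (fun i _ => (Set.finite_singleton (f i)).subset fun v hv => not_not.1 fun h' => hv.2 (single_ne _ _ h'))
    (fun j _ => (Set.finite_singleton j).subset fun v hv => not_not.1 fun h' => hv.2 (single_ne _ _ h'))
    (fun v _ => hmapS v) (fun v _ => DiagTorLib.eq_sum_single _ T v (hT v).2)]
  let I : X → Y → X → ℤ := fun ξ w x => IntMult.interProd δX n (single ξ) (Cyc.pullFun f δX δY e (single w)) x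
  have hI : ∀ x, γ x = ∑ ξ ∈ S, ∑ w ∈ T, α ξ * β w * I ξ w x := by
    intro x
    rw [hγ]
    refine DiagTorLib.interProd_sum δX n ⇑α (Cyc.pullFun f δX δY e ⇑β) x S T ⇑α ⇑β single
      (fun w => Cyc.pullFun f δX δY e (single w))
      (fun i _ => (Set.finite_singleton i).subset fun v hv => not_not.1 fun h' => hv.2 (single_ne _ _ h')) ?_
      (fun v _ => DiagTorLib.eq_sum_single _ S v (hS v).2) fun v _ => ?_
    · intro w hw
      have hqle := CycLimLib.delta_le f hδ hrel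
      refine (DiagTorLib.finite_top_points δX hX ((IntMult.ptIdeal w).comap f) (s + e) (fun u hu => ?_) x).subset
        fun u hu => ?_
      · rw [Scheme.IdealSheafData.support_comap] at hu
        have h1 := (P1InterLib.delta_mono δY hY ((DiagTorLib.mem_support_ptIdeal _ _).1 hu)).1
        have h2 := hqle u
        have h3 := hβ w ((hT w).1 hw)
        omega
      · obtain ⟨hu1, hu2⟩ := hu
        simp only [Cyc.pullFun] at hu2
        split_ifs at hu2 with h'
        swap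
        · exact absurd rfl hu2
        have h3 : f u = w := not_not.1 fun h'' => left_ne_zero_of_mul hu2 (single_ne _ _ h'')
        refine ⟨hu1, ?_, by rw [h', h3, hβ w ((hT w).1 hw)]⟩
        rw [Scheme.IdealSheafData.support_comap]
        exact (DiagTorLib.mem_support_ptIdeal _ _).2 (by rw [h3])
    · simp only [Cyc.pullFun]
      split_ifs
      · rw [DiagTorLib.eq_sum_single ⇑β T (f v) (hT _).2, Finset.sum_mul]
        exact Finset.sum_congr rfl fun w _ => mul_assoc _ _ _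
      · simp
  have hfin : (⋃ ξ ∈ S, ⋃ w ∈ T, {x : X | ξ ⤳ x ∧ w ⤳ f x ∧ δX x = k}).Finite :=
    S.finite_toSet.biUnion fun ξ hξ => T.finite_toSet.biUnion fun w hw =>
      finite_top f δX hX k ξ w (hbound ξ w ((hS ξ).1 hξ) ((hT w).1 hw))
  let G := hfin.toFinset
  have hG : ∀ (h : X → ℤ), (∀ x ∈ f ⁻¹' {ζ}, h x * c x ≠ 0 → x ∈ G) →
      ∑ᶠ x ∈ f ⁻¹' {ζ}, h x * c x = ∑ x ∈ G, (f ⁻¹' {ζ}).indicator (fun x => h x * c x) x := fun h hh => by
    rw [finsum_mem_def]
    refine finsum_eq_sum_of_support_subset _ fun x hx => ?_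
    rw [Function.mem_support, Set.indicator_apply_ne_zero] at hx
    exact hh x hx.1 hx.2
  have hIG : ∀ ξ ∈ S, ∀ w ∈ T, ∀ x, I ξ w x ≠ 0 → x ∈ G := fun ξ hξ w hw x hx =>
    hfin.mem_toFinset.2 (Set.mem_biUnion hξ (Set.mem_biUnion hw
      (of_interProd_ne_zero f δX δY n m e he r s k hk ξ (hα ξ ((hS ξ).1 hξ)) w (hβ w ((hT w).1 hw)) hx)))
  show _ = ∑ᶠ x ∈ f ⁻¹' {ζ}, γ x * c x
  rw [hG γ fun x _ h => by
    have h' := left_ne_zero_of_mul h
    rw [hI] at h'
    obtain ⟨ξ, hξ, h1⟩ := Finset.exists_ne_zero_of_sum_ne_zero h'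
    obtain ⟨w, hw, h2⟩ := Finset.exists_ne_zero_of_sum_ne_zero h1
    exact hIG ξ hξ w hw x (right_ne_zero_of_mul h2)]
  rw [Finset.sum_congr rfl fun x _ => show (f ⁻¹' {ζ}).indicator (fun x => γ x * c x) x =
    ∑ ξ ∈ S, ∑ w ∈ T, α ξ * β w * (f ⁻¹' {ζ}).indicator (fun x => I ξ w x * c x) x from by
      by_cases hx : x ∈ f ⁻¹' {ζ}
      · simp only [Set.indicator_of_mem hx, hI, Finset.sum_mul, mul_assoc]
      · simp only [Set.indicator_of_notMem hx, mul_zero, Finset.sum_const_zero]]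
  refine Eq.trans ?_ Finset.sum_comm
  refine Finset.sum_congr rfl fun ξ hξ => ?_
  refine Eq.trans ?_ Finset.sum_comm
  refine Finset.sum_congr rfl fun w hw => ?_
  rw [← Finset.mul_sum, ← hG (I ξ w) fun x _ h => hIG ξ hξ w hw x (left_ne_zero_of_mul h),
    map_interProd_single gX gY f δX δY hX hY hδX hδY hδ n m hn hm e he hrel r s k hk ξ (hα ξ ((hS ξ).1 hξ)) w
      (hβ w ((hT w).1 hw)) (hbound ξ w ((hS ξ).1 hξ) ((hT w).1 hw)) ζ]
  ring

end CycProjLib

end
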