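import Groth.Agent.CycProjLib.Alg
import Groth.Agent.GraphPullLib.Basic
import Groth.Agent.CycPushLib.SheafPush
import Groth.Agent.CycPushLib.Proper
import Groth.Agent.CycLimLib.Basic

/-!
# The projection formula at one point
-/

set_option autoImplicit false
set_option backward.isDefEq.respectTransparency false
set_option backward.isDefEq.respectTransparency.types false
set_option linter.style.haveILetI false

universe u

open CategoryTheory CategoryTheory.Limits AlgebraicGeometry TopologicalSpace Topology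
open EquidimLib (stalkPt)
open CycDivLib (primeOf stalkPt_primeOf)
open DiagTorLib (single single_self single_ne)
open TensorProduct

noncomputable section

namespace CycProjLib

variable {K : Type u} [Field K] [IsAlgClosed K] {P Y : Scheme.{u}} (gP : P ⟶ Spec (CommRingCat.of K)) [Smooth gP]
  [IsSeparated gP] [QuasiCompact gP] [IsIntegral P] (δP : P → ℤ) (hPd : Cyc.DeltaCompat gP δP (fun _ => 0))
  (hP : Cyc.IsSetup P δP) (N : ℤ) (hN : δP (genericPoint P) = N) (δY : Y → ℤ) (hY : Cyc.IsSetup Y δY)
  (q : P ⟶ Y) [Flat q] [LocallyOfFiniteType q] (d : ℕ) (hd : Cyc.HasRelDim q d) (hq : Cyc.DeltaCompat q δP δY)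

include gP hPd hP hN hY hd hq in
/-- The product of one point with the pullback of one point, at an isolated point of the intersection. -/
theorem interProd_single_pull (g : P) (y : Y) (z : P) (k : ℤ) (hy : δY y = k) (hg : g ⤳ z) (hyz : y ⤳ q z)
    (hone : ∀ ω, g ⤳ ω → y ⤳ q ω → ω ⤳ z → ω = z) (hdim : δP g + k + d - N = δP z) :
    IntMult.interProd δP N (single g) (Cyc.pullFun q δP δY d (single y)) z =
      IntMult.chi (P.presheaf.stalk z) (↑(P.presheaf.stalk z) ⧸ (primeOf hg).asIdeal)
        (↑(P.presheaf.stalk z) ⧸ Ideal.map (q.stalkMap z).hom (primeOf hyz).asIdeal) := by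
  classical
  haveI := hP.1
  haveI := hY.1
  let A := P.presheaf.stalk z
  haveI : IsRegularLocalRing A := WeilExtLib.isRegular_stalk_smooth gP z
  have hqle := CycLimLib.delta_le q hq hd
  have hymono : ∀ {b : Y}, y ⤳ b → δY b ≤ k ∧ (δY b = k → y = b) := fun {b} h => by
    by_cases e : y = b
    · subst e; exact ⟨hy.le, fun _ => rfl⟩
    · have := (hY.2.2 _ _ h e).1
      exact ⟨by omega, fun h' => by omega⟩
  let Jy := (IntMult.ptIdeal y).comap q
  have hJmem : ∀ u, u ∈ Jy.support ↔ y ⤳ q u := fun u => by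
    rw [Scheme.IdealSheafData.support_comap]
    exact DiagTorLib.mem_support_ptIdeal _ _
  have hle : ∀ u ∈ Jy.support, δP u ≤ k + d := fun u hu => by
    have h1 := hqle u
    have h2 := (hymono ((hJmem u).1 hu)).1
    omega
  let J : Ideal A := IntMult.stalkIdeal Jy z
  let Pg : Ideal A := (primeOf hg).asIdeal
  let S := (DiagTorLib.finite_top_points δP hP Jy (k + d) hle z).toFinset
  let T := S.preimage (stalkPt z) (EquidimLib.stalkPt_injective z).injOn
  have hT : ∀ Q, Q ∈ T ↔ J ≤ Q.asIdeal ∧ δP (stalkPt z Q) = k + d := fun Q => by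
    rw [Finset.mem_preimage, Set.Finite.mem_toFinset, Set.mem_setOf_eq, IntMultRegLib.stalkPt_mem_support_iff]
    exact ⟨fun h => h.2, fun h => ⟨EquidimLib.stalkPt_specializes z Q, h⟩⟩
  have hsupp : ∀ Q : PrimeSpectrum A, J ≤ Q.asIdeal → y ⤳ q (stalkPt z Q) := fun Q hQ =>
    (hJmem _).1 ((IntMultRegLib.stalkPt_mem_support_iff _ z Q).2 hQ)
  have hpull : ∀ u, u ⤳ z → Cyc.pullFun q δP δY d (single y) u ≠ 0 → u ∈ S := by
    intro u hu h
    simp only [Cyc.pullFun] at h
    split_ifs at h with h'
    swap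
    · exact absurd rfl h
    have h2 : q u = y := not_not.1 fun h'' => left_ne_zero_of_mul h (single_ne _ _ h'')
    refine (Set.Finite.mem_toFinset _).2 ⟨hu, (hJmem u).2 (by rw [h2]), ?_⟩
    rw [h', h2, hy]
  have hJ : J = Ideal.map (q.stalkMap z).hom (primeOf hyz).asIdeal := by
    show IntMult.stalkIdeal ((IntMult.ptIdeal y).comap q) z = _
    rw [DivDescLib.stalkIdeal_comap, DiagTorLib.stalkIdeal_ptIdeal hyz]
  rw [← hJ, IntMultRegLib.chi_comm]
  rw [IntMultRegLib.chi_eq_sum (↑A ⧸ Pg) J (fun Q hQ => ?_) T (fun Q hQ R hR hRQ => ?_) (fun Q hQ hQT => ?_)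
    (↑A ⧸ J) fun Q hQ => by rwa [Ideal.annihilator_quotient] at hQ]
  · rw [DiagTorLib.interProd_eq_sum δP N (single g) _ z {g} S
      (fun v _ h => Finset.mem_singleton.2 (not_not.1 fun h' => h (single_ne _ _ h'))) hpull, Finset.sum_product,
      Finset.sum_singleton]
    refine (Finset.sum_bij (fun Q _ => stalkPt z Q) (fun Q hQ => Finset.mem_preimage.1 hQ)
      (fun a _ b _ e => EquidimLib.stalkPt_injective z e) (fun v hv => ?_) fun Q hQ => ?_).symm
    · obtain ⟨Q, rfl⟩ := EquidimLib.exists_stalkPt ((Set.Finite.mem_toFinset _).1 hv).1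
      exact ⟨Q, Finset.mem_preimage.2 hv, rfl⟩
    · obtain ⟨hQ1, hQ2⟩ := (hT Q).1 hQ
      have hqu : q (stalkPt z Q) = y := by
        refine ((hymono (hsupp Q hQ1)).2 ?_).symm
        have := hqle (stalkPt z Q)
        have := (hymono (hsupp Q hQ1)).1
        omega
      rw [Set.indicator_of_mem (show (g, stalkPt z Q) ∈ {p : P × P | p.1 ⤳ z ∧ p.2 ⤳ z ∧ δP p.1 + δP p.2 - N = δP z} from
        ⟨hg, EquidimLib.stalkPt_specializes z Q, by
          show δP g + δP (stalkPt z Q) - N = δP z
          omega⟩), single_self, one_mul]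
      have hm : ∀ y', y' = y → IntMult.stalkIdeal (IntMult.ptIdeal y) y' =
          IsLocalRing.maximalIdeal (Y.presheaf.stalk y') := by
        rintro y' rfl
        exact DiagTorLib.stalkIdeal_ptIdeal_self _
      simp only [Cyc.pullFun]
      rw [if_pos (by rw [hQ2, hqu, hy]), show single y (q (stalkPt z Q)) = 1 by rw [hqu, single_self], one_mul,
        P1InterLib.lenAt_stalkQuot, DivDescLib.stalkIdeal_comap, hm _ hqu, IntMult.mult,
        DiagTorLib.stalkIdeal_ptIdeal hg, DiagTorLib.stalkIdeal_ptIdeal (EquidimLib.stalkPt_specializes z Q),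
        DiagTorLib.primeOf_stalkPt]
  · rw [Ideal.annihilator_quotient] at hQ
    have h1 : g ⤳ stalkPt z Q := by
      have := EquidimLib.specializes_stalkPt (x := z) (show primeOf hg ≤ Q from le_sup_right.trans hQ)
      rwa [stalkPt_primeOf] at this
    obtain rfl : Q = IsLocalRing.closedPoint A := EquidimLib.stalkPt_injective z
      ((hone _ h1 (hsupp Q (le_sup_left.trans hQ)) (EquidimLib.stalkPt_specializes z Q)).trans
        Scheme.fromSpecStalk_closedPoint.symm)
    exact IsLocalRing.maximalIdeal.isMaximal _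
  · have h1 := P1InterLib.delta_mono δP hP (EquidimLib.specializes_stalkPt (x := z) (show R ≤ Q from hRQ))
    have h2 := hle _ ((IntMultRegLib.stalkPt_mem_support_iff _ z R).2 hR)
    have h3 := ((hT Q).1 hQ).2
    exact EquidimLib.stalkPt_injective z (h1.2 (by omega))
  · refine DiagTorLib.chi_primes_eq_zero gP δP hPd N hN Q (primeOf hg) (fun ω h1 h2 h3 => ?_) ?_
    · rw [stalkPt_primeOf] at h2
      exact hone ω h2 ((hsupp Q hQ).trans (h1.map q.continuous)) h3
    · have h1 : δP (stalkPt z Q) ≠ k + d := fun e => hQT ((hT Q).2 ⟨hQ, e⟩)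
      have h2 := hle _ ((IntMultRegLib.stalkPt_mem_support_iff _ z Q).2 hQ)
      rw [stalkPt_primeOf]
      omega

end CycProjLib

end
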